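import Cfsg.Agent.Lib.SporRecognition.LyRep.Rep

/-! The relators of the presentation hold for the matrices. -/

set_option autoImplicit false
set_option maxRecDepth 100000
set_option maxHeartbeats 1000000
set_option Elab.async false
set_option linter.unusedSimpArgs false
set_option linter.unusedTactic false
set_option linter.unreachableTactic false

namespace CfsgLib.SporRecognition.LyRep

open Cfsg.Spor.Ly

attribute [local irreducible] mul one mat okB ent matA invA matB invB matC invC matD invD matZ invZ uA uB uC uD uZ pw2 pw3 pw4 pw5 pw6 pw8 img Rep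

theorem rel30 : FreeGroup.lift img (e ^ 2) = 1 := by
  simp only [map_mul, map_pow, map_inv, FreeGroup.lift_apply_of, img_e, w_c1, w_c2, w_c3, w_c4, w_c5, w_e, w_a1, w_a2, w_a3, w_a4, w_u, w_x23, w_x24, w_x25, w_x29, w_x47, w_x96, w_x129, w_x162, w_x163, w_x164, w_x165, w_x166, w_x167, w_x168, w_x169, w_x364, w_x365, w_x366, w_x367, w_x368, w_x369, w_x370, w_x371, mul_inv_rev, inv_inv, ← inv_pow]
  apply eq_one_of_rep
  case ha =>
    repeat' first
      | with_reducible exact rep_a | with_reducible exact rep_ai | with_reducible exact rep_b | with_reducible exact rep_bi | with_reducible exact rep_c | with_reducible exact rep_ci | with_reducible exact rep_d | with_reducible exact rep_di | with_reducible exact rep_z | with_reducible exact rep_zi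
      | with_reducible apply rep_pw2 | with_reducible apply rep_pw3 | with_reducible apply rep_pw4 | with_reducible apply rep_pw5 | with_reducible apply rep_pw8
      | with_reducible apply rep_mul
  decide +kernel

theorem rel31 : FreeGroup.lift img ((e⁻¹ * c1 * e) * ((b * c3 * b * (c1⁻¹))⁻¹)) = 1 := by
  simp only [map_mul, map_pow, map_inv, FreeGroup.lift_apply_of, img_b, img_c1, img_c3, img_e, w_c1, w_c2, w_c3, w_c4, w_c5, w_e, w_a1, w_a2, w_a3, w_a4, w_u, w_x23, w_x24, w_x25, w_x29, w_x47, w_x96, w_x129, w_x162, w_x163, w_x164, w_x165, w_x166, w_x167, w_x168, w_x169, w_x364, w_x365, w_x366, w_x367, w_x368, w_x369, w_x370, w_x371, mul_inv_rev, inv_inv, ← inv_pow]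
  apply eq_one_of_rep
  case ha =>
    repeat' first
      | with_reducible exact rep_a | with_reducible exact rep_ai | with_reducible exact rep_b | with_reducible exact rep_bi | with_reducible exact rep_c | with_reducible exact rep_ci | with_reducible exact rep_d | with_reducible exact rep_di | with_reducible exact rep_z | with_reducible exact rep_zi
      | with_reducible apply rep_pw2 | with_reducible apply rep_pw3 | with_reducible apply rep_pw4 | with_reducible apply rep_pw5 | with_reducible apply rep_pw8
      | with_reducible apply rep_mul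
  decide +kernel

theorem rel32 : FreeGroup.lift img ((e⁻¹ * c3 * e) * (((b ^ 2) * a * c2 * (c1⁻¹) * (c4⁻¹) * (a⁻¹))⁻¹)) = 1 := by
  simp only [map_mul, map_pow, map_inv, FreeGroup.lift_apply_of, img_a, img_b, img_c1, img_c2, img_c3, img_c4, img_e, w_c1, w_c2, w_c3, w_c4, w_c5, w_e, w_a1, w_a2, w_a3, w_a4, w_u, w_x23, w_x24, w_x25, w_x29, w_x47, w_x96, w_x129, w_x162, w_x163, w_x164, w_x165, w_x166, w_x167, w_x168, w_x169, w_x364, w_x365, w_x366, w_x367, w_x368, w_x369, w_x370, w_x371, mul_inv_rev, inv_inv, ← inv_pow]
  apply eq_one_of_rep
  case ha =>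
    repeat' first
      | with_reducible exact rep_a | with_reducible exact rep_ai | with_reducible exact rep_b | with_reducible exact rep_bi | with_reducible exact rep_c | with_reducible exact rep_ci | with_reducible exact rep_d | with_reducible exact rep_di | with_reducible exact rep_z | with_reducible exact rep_zi
      | with_reducible apply rep_pw2 | with_reducible apply rep_pw3 | with_reducible apply rep_pw4 | with_reducible apply rep_pw5 | with_reducible apply rep_pw8
      | with_reducible apply rep_mul
  decide +kernel

theorem rel33 : FreeGroup.lift img ((e⁻¹ * c4 * e) * (((b ^ 2) * (c3⁻¹) * c4)⁻¹)) = 1 := by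
  simp only [map_mul, map_pow, map_inv, FreeGroup.lift_apply_of, img_b, img_c3, img_c4, img_e, w_c1, w_c2, w_c3, w_c4, w_c5, w_e, w_a1, w_a2, w_a3, w_a4, w_u, w_x23, w_x24, w_x25, w_x29, w_x47, w_x96, w_x129, w_x162, w_x163, w_x164, w_x165, w_x166, w_x167, w_x168, w_x169, w_x364, w_x365, w_x366, w_x367, w_x368, w_x369, w_x370, w_x371, mul_inv_rev, inv_inv, ← inv_pow]
  apply eq_one_of_rep
  case ha =>
    repeat' first
      | with_reducible exact rep_a | with_reducible exact rep_ai | with_reducible exact rep_b | with_reducible exact rep_bi | with_reducible exact rep_c | with_reducible exact rep_ci | with_reducible exact rep_d | with_reducible exact rep_di | with_reducible exact rep_z | with_reducible exact rep_zi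
      | with_reducible apply rep_pw2 | with_reducible apply rep_pw3 | with_reducible apply rep_pw4 | with_reducible apply rep_pw5 | with_reducible apply rep_pw8
      | with_reducible apply rep_mul
  decide +kernel

theorem rel34 : FreeGroup.lift img ((e⁻¹ * c5 * e) * ((c1 * (c3⁻¹) * c1 * (c4⁻¹))⁻¹)) = 1 := by
  simp only [map_mul, map_pow, map_inv, FreeGroup.lift_apply_of, img_c1, img_c3, img_c4, img_c5, img_e, w_c1, w_c2, w_c3, w_c4, w_c5, w_e, w_a1, w_a2, w_a3, w_a4, w_u, w_x23, w_x24, w_x25, w_x29, w_x47, w_x96, w_x129, w_x162, w_x163, w_x164, w_x165, w_x166, w_x167, w_x168, w_x169, w_x364, w_x365, w_x366, w_x367, w_x368, w_x369, w_x370, w_x371, mul_inv_rev, inv_inv, ← inv_pow]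
  apply eq_one_of_rep
  case ha =>
    repeat' first
      | with_reducible exact rep_a | with_reducible exact rep_ai | with_reducible exact rep_b | with_reducible exact rep_bi | with_reducible exact rep_c | with_reducible exact rep_ci | with_reducible exact rep_d | with_reducible exact rep_di | with_reducible exact rep_z | with_reducible exact rep_zi
      | with_reducible apply rep_pw2 | with_reducible apply rep_pw3 | with_reducible apply rep_pw4 | with_reducible apply rep_pw5 | with_reducible apply rep_pw8
      | with_reducible apply rep_mul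
  decide +kernel

theorem rel35 : FreeGroup.lift img ((e * (a ^ 2) * e) * ((a * (b ^ 2) * a * (b⁻¹) * a * c1 * c5 * (c4⁻¹))⁻¹)) = 1 := by
  simp only [map_mul, map_pow, map_inv, FreeGroup.lift_apply_of, img_a, img_b, img_c1, img_c4, img_c5, img_e, w_c1, w_c2, w_c3, w_c4, w_c5, w_e, w_a1, w_a2, w_a3, w_a4, w_u, w_x23, w_x24, w_x25, w_x29, w_x47, w_x96, w_x129, w_x162, w_x163, w_x164, w_x165, w_x166, w_x167, w_x168, w_x169, w_x364, w_x365, w_x366, w_x367, w_x368, w_x369, w_x370, w_x371, mul_inv_rev, inv_inv, ← inv_pow]
  apply eq_one_of_rep
  case ha =>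
    repeat' first
      | with_reducible exact rep_a | with_reducible exact rep_ai | with_reducible exact rep_b | with_reducible exact rep_bi | with_reducible exact rep_c | with_reducible exact rep_ci | with_reducible exact rep_d | with_reducible exact rep_di | with_reducible exact rep_z | with_reducible exact rep_zi
      | with_reducible apply rep_pw2 | with_reducible apply rep_pw3 | with_reducible apply rep_pw4 | with_reducible apply rep_pw5 | with_reducible apply rep_pw8
      | with_reducible apply rep_mul
  decide +kernel

theorem rel36 : FreeGroup.lift img ((e⁻¹ * b * e) * ((c1 * (c3⁻¹) * ((c4 ^ 2)⁻¹))⁻¹)) = 1 := by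
  simp only [map_mul, map_pow, map_inv, FreeGroup.lift_apply_of, img_b, img_c1, img_c3, img_c4, img_e, w_c1, w_c2, w_c3, w_c4, w_c5, w_e, w_a1, w_a2, w_a3, w_a4, w_u, w_x23, w_x24, w_x25, w_x29, w_x47, w_x96, w_x129, w_x162, w_x163, w_x164, w_x165, w_x166, w_x167, w_x168, w_x169, w_x364, w_x365, w_x366, w_x367, w_x368, w_x369, w_x370, w_x371, mul_inv_rev, inv_inv, ← inv_pow]
  apply eq_one_of_rep
  case ha =>
    repeat' first
      | with_reducible exact rep_a | with_reducible exact rep_ai | with_reducible exact rep_b | with_reducible exact rep_bi | with_reducible exact rep_c | with_reducible exact rep_ci | with_reducible exact rep_d | with_reducible exact rep_di | with_reducible exact rep_z | with_reducible exact rep_zi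
      | with_reducible apply rep_pw2 | with_reducible apply rep_pw3 | with_reducible apply rep_pw4 | with_reducible apply rep_pw5 | with_reducible apply rep_pw8
      | with_reducible apply rep_mul
  decide +kernel

theorem rel37 : FreeGroup.lift img ((e * a * (b ^ 2) * a * (b⁻¹) * a * e) * (((a ^ 2) * c1 * c5 * (c4⁻¹))⁻¹)) = 1 := by
  simp only [map_mul, map_pow, map_inv, FreeGroup.lift_apply_of, img_a, img_b, img_c1, img_c4, img_c5, img_e, w_c1, w_c2, w_c3, w_c4, w_c5, w_e, w_a1, w_a2, w_a3, w_a4, w_u, w_x23, w_x24, w_x25, w_x29, w_x47, w_x96, w_x129, w_x162, w_x163, w_x164, w_x165, w_x166, w_x167, w_x168, w_x169, w_x364, w_x365, w_x366, w_x367, w_x368, w_x369, w_x370, w_x371, mul_inv_rev, inv_inv, ← inv_pow]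
  apply eq_one_of_rep
  case ha =>
    repeat' first
      | with_reducible exact rep_a | with_reducible exact rep_ai | with_reducible exact rep_b | with_reducible exact rep_bi | with_reducible exact rep_c | with_reducible exact rep_ci | with_reducible exact rep_d | with_reducible exact rep_di | with_reducible exact rep_z | with_reducible exact rep_zi
      | with_reducible apply rep_pw2 | with_reducible apply rep_pw3 | with_reducible apply rep_pw4 | with_reducible apply rep_pw5 | with_reducible apply rep_pw8
      | with_reducible apply rep_mul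
  decide +kernel

theorem rel38 : FreeGroup.lift img (e * c2 * e * (c2⁻¹) * e * c2 * (c4⁻¹) * a * c3 * (a ^ 3)) = 1 := by
  simp only [map_mul, map_pow, map_inv, FreeGroup.lift_apply_of, img_a, img_c2, img_c3, img_c4, img_e, w_c1, w_c2, w_c3, w_c4, w_c5, w_e, w_a1, w_a2, w_a3, w_a4, w_u, w_x23, w_x24, w_x25, w_x29, w_x47, w_x96, w_x129, w_x162, w_x163, w_x164, w_x165, w_x166, w_x167, w_x168, w_x169, w_x364, w_x365, w_x366, w_x367, w_x368, w_x369, w_x370, w_x371, mul_inv_rev, inv_inv, ← inv_pow]
  apply eq_one_of_rep
  case ha =>
    repeat' first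
      | with_reducible exact rep_a | with_reducible exact rep_ai | with_reducible exact rep_b | with_reducible exact rep_bi | with_reducible exact rep_c | with_reducible exact rep_ci | with_reducible exact rep_d | with_reducible exact rep_di | with_reducible exact rep_z | with_reducible exact rep_zi
      | with_reducible apply rep_pw2 | with_reducible apply rep_pw3 | with_reducible apply rep_pw4 | with_reducible apply rep_pw5 | with_reducible apply rep_pw8
      | with_reducible apply rep_mul
  decide +kernel

theorem rel39 : FreeGroup.lift img (d * ((a * (b ^ 2) * (a⁻¹) * (b⁻¹) * (c1⁻¹) * (c4⁻¹) * (c5⁻¹) * a * e * a * e * a * (c2⁻¹) * b * e)⁻¹)) = 1 := by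
  simp only [map_mul, map_pow, map_inv, FreeGroup.lift_apply_of, img_a, img_b, img_c1, img_c2, img_c4, img_c5, img_d, img_e, w_c1, w_c2, w_c3, w_c4, w_c5, w_e, w_a1, w_a2, w_a3, w_a4, w_u, w_x23, w_x24, w_x25, w_x29, w_x47, w_x96, w_x129, w_x162, w_x163, w_x164, w_x165, w_x166, w_x167, w_x168, w_x169, w_x364, w_x365, w_x366, w_x367, w_x368, w_x369, w_x370, w_x371, mul_inv_rev, inv_inv, ← inv_pow]
  apply eq_one_of_rep
  case ha =>
    repeat' first
      | with_reducible exact rep_a | with_reducible exact rep_ai | with_reducible exact rep_b | with_reducible exact rep_bi | with_reducible exact rep_c | with_reducible exact rep_ci | with_reducible exact rep_d | with_reducible exact rep_di | with_reducible exact rep_z | with_reducible exact rep_zi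
      | with_reducible apply rep_pw2 | with_reducible apply rep_pw3 | with_reducible apply rep_pw4 | with_reducible apply rep_pw5 | with_reducible apply rep_pw8
      | with_reducible apply rep_mul
  decide +kernel

theorem rel40 : FreeGroup.lift img ((d ^ 2) * ((a ^ 4)⁻¹)) = 1 := by
  simp only [map_mul, map_pow, map_inv, FreeGroup.lift_apply_of, img_a, img_d, w_c1, w_c2, w_c3, w_c4, w_c5, w_e, w_a1, w_a2, w_a3, w_a4, w_u, w_x23, w_x24, w_x25, w_x29, w_x47, w_x96, w_x129, w_x162, w_x163, w_x164, w_x165, w_x166, w_x167, w_x168, w_x169, w_x364, w_x365, w_x366, w_x367, w_x368, w_x369, w_x370, w_x371, mul_inv_rev, inv_inv, ← inv_pow]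
  apply eq_one_of_rep
  case ha =>
    repeat' first
      | with_reducible exact rep_a | with_reducible exact rep_ai | with_reducible exact rep_b | with_reducible exact rep_bi | with_reducible exact rep_c | with_reducible exact rep_ci | with_reducible exact rep_d | with_reducible exact rep_di | with_reducible exact rep_z | with_reducible exact rep_zi
      | with_reducible apply rep_pw2 | with_reducible apply rep_pw3 | with_reducible apply rep_pw4 | with_reducible apply rep_pw5 | with_reducible apply rep_pw8
      | with_reducible apply rep_mul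
  decide +kernel

theorem rel41 : FreeGroup.lift img (b⁻¹ * d⁻¹ * b * d) = 1 := by
  simp only [map_mul, map_pow, map_inv, FreeGroup.lift_apply_of, img_b, img_d, w_c1, w_c2, w_c3, w_c4, w_c5, w_e, w_a1, w_a2, w_a3, w_a4, w_u, w_x23, w_x24, w_x25, w_x29, w_x47, w_x96, w_x129, w_x162, w_x163, w_x164, w_x165, w_x166, w_x167, w_x168, w_x169, w_x364, w_x365, w_x366, w_x367, w_x368, w_x369, w_x370, w_x371, mul_inv_rev, inv_inv, ← inv_pow]
  apply eq_one_of_rep
  case ha =>
    repeat' first
      | with_reducible exact rep_a | with_reducible exact rep_ai | with_reducible exact rep_b | with_reducible exact rep_bi | with_reducible exact rep_c | with_reducible exact rep_ci | with_reducible exact rep_d | with_reducible exact rep_di | with_reducible exact rep_z | with_reducible exact rep_zi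
      | with_reducible apply rep_pw2 | with_reducible apply rep_pw3 | with_reducible apply rep_pw4 | with_reducible apply rep_pw5 | with_reducible apply rep_pw8
      | with_reducible apply rep_mul
  decide +kernel

theorem rel42 : FreeGroup.lift img ((d⁻¹ * a * d) * ((a ^ 3)⁻¹)) = 1 := by
  simp only [map_mul, map_pow, map_inv, FreeGroup.lift_apply_of, img_a, img_d, w_c1, w_c2, w_c3, w_c4, w_c5, w_e, w_a1, w_a2, w_a3, w_a4, w_u, w_x23, w_x24, w_x25, w_x29, w_x47, w_x96, w_x129, w_x162, w_x163, w_x164, w_x165, w_x166, w_x167, w_x168, w_x169, w_x364, w_x365, w_x366, w_x367, w_x368, w_x369, w_x370, w_x371, mul_inv_rev, inv_inv, ← inv_pow]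
  apply eq_one_of_rep
  case ha =>
    repeat' first
      | with_reducible exact rep_a | with_reducible exact rep_ai | with_reducible exact rep_b | with_reducible exact rep_bi | with_reducible exact rep_c | with_reducible exact rep_ci | with_reducible exact rep_d | with_reducible exact rep_di | with_reducible exact rep_z | with_reducible exact rep_zi
      | with_reducible apply rep_pw2 | with_reducible apply rep_pw3 | with_reducible apply rep_pw4 | with_reducible apply rep_pw5 | with_reducible apply rep_pw8
      | with_reducible apply rep_mul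
  decide +kernel

theorem rel43 : FreeGroup.lift img ((d * c5) ^ 5) = 1 := by
  simp only [map_mul, map_pow, map_inv, FreeGroup.lift_apply_of, img_c5, img_d, w_c1, w_c2, w_c3, w_c4, w_c5, w_e, w_a1, w_a2, w_a3, w_a4, w_u, w_x23, w_x24, w_x25, w_x29, w_x47, w_x96, w_x129, w_x162, w_x163, w_x164, w_x165, w_x166, w_x167, w_x168, w_x169, w_x364, w_x365, w_x366, w_x367, w_x368, w_x369, w_x370, w_x371, mul_inv_rev, inv_inv, ← inv_pow]
  apply eq_one_of_rep
  case ha =>
    repeat' first
      | with_reducible exact rep_a | with_reducible exact rep_ai | with_reducible exact rep_b | with_reducible exact rep_bi | with_reducible exact rep_c | with_reducible exact rep_ci | with_reducible exact rep_d | with_reducible exact rep_di | with_reducible exact rep_z | with_reducible exact rep_zi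
      | with_reducible apply rep_pw2 | with_reducible apply rep_pw3 | with_reducible apply rep_pw4 | with_reducible apply rep_pw5 | with_reducible apply rep_pw8
      | with_reducible apply rep_mul
  decide +kernel

theorem rel44 : FreeGroup.lift img (d * c5 * d * (c5⁻¹) * d * c5 * ((a ^ 2)⁻¹)) = 1 := by
  simp only [map_mul, map_pow, map_inv, FreeGroup.lift_apply_of, img_a, img_c5, img_d, w_c1, w_c2, w_c3, w_c4, w_c5, w_e, w_a1, w_a2, w_a3, w_a4, w_u, w_x23, w_x24, w_x25, w_x29, w_x47, w_x96, w_x129, w_x162, w_x163, w_x164, w_x165, w_x166, w_x167, w_x168, w_x169, w_x364, w_x365, w_x366, w_x367, w_x368, w_x369, w_x370, w_x371, mul_inv_rev, inv_inv, ← inv_pow]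
  apply eq_one_of_rep
  case ha =>
    repeat' first
      | with_reducible exact rep_a | with_reducible exact rep_ai | with_reducible exact rep_b | with_reducible exact rep_bi | with_reducible exact rep_c | with_reducible exact rep_ci | with_reducible exact rep_d | with_reducible exact rep_di | with_reducible exact rep_z | with_reducible exact rep_zi
      | with_reducible apply rep_pw2 | with_reducible apply rep_pw3 | with_reducible apply rep_pw4 | with_reducible apply rep_pw5 | with_reducible apply rep_pw8
      | with_reducible apply rep_mul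
  decide +kernel

end CfsgLib.SporRecognition.LyRep
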