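import Cfsg.Agent.Lib.SporRecognition.LyRep.Rep

/-! The relators of the presentation hold for the matrices. -/

set_option autoImplicit false
set_option maxRecDepth 100000
set_option maxHeartbeats 1000000
set_option Elab.async false
set_option linter.unusedSimpArgs false
set_option linter.unusedTactic false
set_option linter.unreachableTactic false

namespace CfsgLib.SporRecognition.LyRep

open Cfsg.Spor.Ly

attribute [local irreducible] mul one mat okB ent matA invA matB invB matC invC matD invD matZ invZ uA uB uC uD uZ pw2 pw3 pw4 pw5 pw6 pw8 img Rep

theorem rel83 : FreeGroup.lift img (x47 * z * x364 * z * x368 * z) = 1 := by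
  simp only [map_mul, map_pow, map_inv, FreeGroup.lift_apply_of, img_x364, img_x368, img_x47, img_z, w_c1, w_c2, w_c3, w_c4, w_c5, w_e, w_a1, w_a2, w_a3, w_a4, w_u, w_x23, w_x24, w_x25, w_x29, w_x47, w_x96, w_x129, w_x162, w_x163, w_x164, w_x165, w_x166, w_x167, w_x168, w_x169, w_x364, w_x365, w_x366, w_x367, w_x368, w_x369, w_x370, w_x371, mul_inv_rev, inv_inv, ← inv_pow]
  apply eq_one_of_rep
  case ha =>
    repeat' first
      | with_reducible exact rep_a | with_reducible exact rep_ai | with_reducible exact rep_b | with_reducible exact rep_bi | with_reducible exact rep_c | with_reducible exact rep_ci | with_reducible exact rep_d | with_reducible exact rep_di | with_reducible exact rep_z | with_reducible exact rep_zi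
      | with_reducible apply rep_pw2 | with_reducible apply rep_pw3 | with_reducible apply rep_pw4 | with_reducible apply rep_pw5 | with_reducible apply rep_pw8
      | with_reducible apply rep_mul
  decide +kernel

theorem rel84 : FreeGroup.lift img ((z⁻¹) * x24 * (z⁻¹) * x369 * z * x23 * z * x29) = 1 := by
  simp only [map_mul, map_pow, map_inv, FreeGroup.lift_apply_of, img_x23, img_x24, img_x29, img_x369, img_z, w_c1, w_c2, w_c3, w_c4, w_c5, w_e, w_a1, w_a2, w_a3, w_a4, w_u, w_x23, w_x24, w_x25, w_x29, w_x47, w_x96, w_x129, w_x162, w_x163, w_x164, w_x165, w_x166, w_x167, w_x168, w_x169, w_x364, w_x365, w_x366, w_x367, w_x368, w_x369, w_x370, w_x371, mul_inv_rev, inv_inv, ← inv_pow]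
  apply eq_one_of_rep
  case ha =>
    repeat' first
      | with_reducible exact rep_a | with_reducible exact rep_ai | with_reducible exact rep_b | with_reducible exact rep_bi | with_reducible exact rep_c | with_reducible exact rep_ci | with_reducible exact rep_d | with_reducible exact rep_di | with_reducible exact rep_z | with_reducible exact rep_zi
      | with_reducible apply rep_pw2 | with_reducible apply rep_pw3 | with_reducible apply rep_pw4 | with_reducible apply rep_pw5 | with_reducible apply rep_pw8
      | with_reducible apply rep_mul
  decide +kernel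

theorem rel85 : FreeGroup.lift img (z * x366 * z * x365 * (z⁻¹) * x367 * (z⁻¹) * x370) = 1 := by
  simp only [map_mul, map_pow, map_inv, FreeGroup.lift_apply_of, img_x365, img_x366, img_x367, img_x370, img_z, w_c1, w_c2, w_c3, w_c4, w_c5, w_e, w_a1, w_a2, w_a3, w_a4, w_u, w_x23, w_x24, w_x25, w_x29, w_x47, w_x96, w_x129, w_x162, w_x163, w_x164, w_x165, w_x166, w_x167, w_x168, w_x169, w_x364, w_x365, w_x366, w_x367, w_x368, w_x369, w_x370, w_x371, mul_inv_rev, inv_inv, ← inv_pow]
  apply eq_one_of_rep
  case ha =>
    repeat' first
      | with_reducible exact rep_a | with_reducible exact rep_ai | with_reducible exact rep_b | with_reducible exact rep_bi | with_reducible exact rep_c | with_reducible exact rep_ci | with_reducible exact rep_d | with_reducible exact rep_di | with_reducible exact rep_z | with_reducible exact rep_zi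
      | with_reducible apply rep_pw2 | with_reducible apply rep_pw3 | with_reducible apply rep_pw4 | with_reducible apply rep_pw5 | with_reducible apply rep_pw8
      | with_reducible apply rep_mul
  decide +kernel

theorem rel86 : FreeGroup.lift img (z * x96 * z * x25 * (z⁻¹) * x129 * (z⁻¹) * x371) = 1 := by
  simp only [map_mul, map_pow, map_inv, FreeGroup.lift_apply_of, img_x129, img_x25, img_x371, img_x96, img_z, w_c1, w_c2, w_c3, w_c4, w_c5, w_e, w_a1, w_a2, w_a3, w_a4, w_u, w_x23, w_x24, w_x25, w_x29, w_x47, w_x96, w_x129, w_x162, w_x163, w_x164, w_x165, w_x166, w_x167, w_x168, w_x169, w_x364, w_x365, w_x366, w_x367, w_x368, w_x369, w_x370, w_x371, mul_inv_rev, inv_inv, ← inv_pow]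
  apply eq_one_of_rep
  case ha =>
    repeat' first
      | with_reducible exact rep_a | with_reducible exact rep_ai | with_reducible exact rep_b | with_reducible exact rep_bi | with_reducible exact rep_c | with_reducible exact rep_ci | with_reducible exact rep_d | with_reducible exact rep_di | with_reducible exact rep_z | with_reducible exact rep_zi
      | with_reducible apply rep_pw2 | with_reducible apply rep_pw3 | with_reducible apply rep_pw4 | with_reducible apply rep_pw5 | with_reducible apply rep_pw8
      | with_reducible apply rep_mul
  decide +kernel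

end CfsgLib.SporRecognition.LyRep
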