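import Cfsg.Agent.Lib.SporRecognition.LyRep.RelatorsA
import Cfsg.Agent.Lib.SporRecognition.LyRep.RelatorsB
import Cfsg.Agent.Lib.SporRecognition.LyRep.RelatorsC
import Cfsg.Agent.Lib.SporRecognition.LyRep.RelatorsD

/-! A representation of degree 111 of the presented Lyons group. -/

set_option autoImplicit false
set_option maxRecDepth 100000
set_option linter.unusedSimpArgs false
set_option linter.constructorNameAsVariable false

namespace CfsgLib.SporRecognition.LyRep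

open Cfsg.Spor.Ly

attribute [local irreducible] mul one mat okB ent matA invA matB invB matC invC matD invD matZ invZ uA uB uC uD uZ img

theorem rel6 : FreeGroup.lift img (c1 * (c⁻¹)) = 1 := by
  simp only [map_mul, map_pow, map_inv, FreeGroup.lift_apply_of, img_c, img_c1, w_c1, w_c2, w_c3, w_c4, w_c5, w_e, w_a1, w_a2, w_a3, w_a4, w_u, w_x23, w_x24, w_x25, w_x29, w_x47, w_x96, w_x129, w_x162, w_x163, w_x164, w_x165, w_x166, w_x167, w_x168, w_x169, w_x364, w_x365, w_x366, w_x367, w_x368, w_x369, w_x370, w_x371, mul_inv_cancel]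

theorem rel7 : FreeGroup.lift img (c2 * ((a⁻¹ * c * a)⁻¹)) = 1 := by
  simp only [map_mul, map_pow, map_inv, FreeGroup.lift_apply_of, img_a, img_c, img_c2, w_c1, w_c2, w_c3, w_c4, w_c5, w_e, w_a1, w_a2, w_a3, w_a4, w_u, w_x23, w_x24, w_x25, w_x29, w_x47, w_x96, w_x129, w_x162, w_x163, w_x164, w_x165, w_x166, w_x167, w_x168, w_x169, w_x364, w_x365, w_x366, w_x367, w_x368, w_x369, w_x370, w_x371, mul_inv_cancel]

theorem rel8 : FreeGroup.lift img (c3 * ((b⁻¹ * c * b)⁻¹)) = 1 := by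
  simp only [map_mul, map_pow, map_inv, FreeGroup.lift_apply_of, img_b, img_c, img_c3, w_c1, w_c2, w_c3, w_c4, w_c5, w_e, w_a1, w_a2, w_a3, w_a4, w_u, w_x23, w_x24, w_x25, w_x29, w_x47, w_x96, w_x129, w_x162, w_x163, w_x164, w_x165, w_x166, w_x167, w_x168, w_x169, w_x364, w_x365, w_x366, w_x367, w_x368, w_x369, w_x370, w_x371, mul_inv_cancel]

theorem rel9 : FreeGroup.lift img (c4 * (((b⁻¹)⁻¹ * c * (b⁻¹))⁻¹)) = 1 := by
  simp only [map_mul, map_pow, map_inv, FreeGroup.lift_apply_of, img_b, img_c, img_c4, w_c1, w_c2, w_c3, w_c4, w_c5, w_e, w_a1, w_a2, w_a3, w_a4, w_u, w_x23, w_x24, w_x25, w_x29, w_x47, w_x96, w_x129, w_x162, w_x163, w_x164, w_x165, w_x166, w_x167, w_x168, w_x169, w_x364, w_x365, w_x366, w_x367, w_x368, w_x369, w_x370, w_x371, mul_inv_cancel]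

theorem rel10 : FreeGroup.lift img (c5 * ((c1⁻¹ * c2⁻¹ * c1 * c2)⁻¹)) = 1 := by
  simp only [map_mul, map_pow, map_inv, FreeGroup.lift_apply_of, img_c1, img_c2, img_c5, w_c1, w_c2, w_c3, w_c4, w_c5, w_e, w_a1, w_a2, w_a3, w_a4, w_u, w_x23, w_x24, w_x25, w_x29, w_x47, w_x96, w_x129, w_x162, w_x163, w_x164, w_x165, w_x166, w_x167, w_x168, w_x169, w_x364, w_x365, w_x366, w_x367, w_x368, w_x369, w_x370, w_x371, mul_inv_cancel]

theorem rel29 : FreeGroup.lift img (e * ((((b ^ 2)⁻¹) * (a⁻¹ * c1⁻¹ * a * c1) * (a⁻¹) * c1 * a * d * c1 * b * a * (b⁻¹) * d * c1 * d)⁻¹)) = 1 := by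
  simp only [map_mul, map_pow, map_inv, FreeGroup.lift_apply_of, img_a, img_b, img_c1, img_d, img_e, w_c1, w_c2, w_c3, w_c4, w_c5, w_e, w_a1, w_a2, w_a3, w_a4, w_u, w_x23, w_x24, w_x25, w_x29, w_x47, w_x96, w_x129, w_x162, w_x163, w_x164, w_x165, w_x166, w_x167, w_x168, w_x169, w_x364, w_x365, w_x366, w_x367, w_x368, w_x369, w_x370, w_x371, mul_inv_cancel]

theorem rel45 : FreeGroup.lift img (a1 * (a⁻¹)) = 1 := by
  simp only [map_mul, map_pow, map_inv, FreeGroup.lift_apply_of, img_a, img_a1, w_c1, w_c2, w_c3, w_c4, w_c5, w_e, w_a1, w_a2, w_a3, w_a4, w_u, w_x23, w_x24, w_x25, w_x29, w_x47, w_x96, w_x129, w_x162, w_x163, w_x164, w_x165, w_x166, w_x167, w_x168, w_x169, w_x364, w_x365, w_x366, w_x367, w_x368, w_x369, w_x370, w_x371, mul_inv_cancel]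

theorem rel46 : FreeGroup.lift img (a2 * (((b⁻¹)⁻¹ * a * (b⁻¹))⁻¹)) = 1 := by
  simp only [map_mul, map_pow, map_inv, FreeGroup.lift_apply_of, img_a, img_a2, img_b, w_c1, w_c2, w_c3, w_c4, w_c5, w_e, w_a1, w_a2, w_a3, w_a4, w_u, w_x23, w_x24, w_x25, w_x29, w_x47, w_x96, w_x129, w_x162, w_x163, w_x164, w_x165, w_x166, w_x167, w_x168, w_x169, w_x364, w_x365, w_x366, w_x367, w_x368, w_x369, w_x370, w_x371, mul_inv_cancel]

theorem rel47 : FreeGroup.lift img (a3 * ((((b ^ 2)⁻¹)⁻¹ * a * ((b ^ 2)⁻¹))⁻¹)) = 1 := by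
  simp only [map_mul, map_pow, map_inv, FreeGroup.lift_apply_of, img_a, img_a3, img_b, w_c1, w_c2, w_c3, w_c4, w_c5, w_e, w_a1, w_a2, w_a3, w_a4, w_u, w_x23, w_x24, w_x25, w_x29, w_x47, w_x96, w_x129, w_x162, w_x163, w_x164, w_x165, w_x166, w_x167, w_x168, w_x169, w_x364, w_x365, w_x366, w_x367, w_x368, w_x369, w_x370, w_x371, mul_inv_cancel]

theorem rel48 : FreeGroup.lift img (a4 * (((b ^ 2)⁻¹ * a * (b ^ 2))⁻¹)) = 1 := by
  simp only [map_mul, map_pow, map_inv, FreeGroup.lift_apply_of, img_a, img_a4, img_b, w_c1, w_c2, w_c3, w_c4, w_c5, w_e, w_a1, w_a2, w_a3, w_a4, w_u, w_x23, w_x24, w_x25, w_x29, w_x47, w_x96, w_x129, w_x162, w_x163, w_x164, w_x165, w_x166, w_x167, w_x168, w_x169, w_x364, w_x365, w_x366, w_x367, w_x368, w_x369, w_x370, w_x371, mul_inv_cancel]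

theorem rel49 : FreeGroup.lift img (u * ((a ^ 2)⁻¹)) = 1 := by
  simp only [map_mul, map_pow, map_inv, FreeGroup.lift_apply_of, img_a, img_u, w_c1, w_c2, w_c3, w_c4, w_c5, w_e, w_a1, w_a2, w_a3, w_a4, w_u, w_x23, w_x24, w_x25, w_x29, w_x47, w_x96, w_x129, w_x162, w_x163, w_x164, w_x165, w_x166, w_x167, w_x168, w_x169, w_x364, w_x365, w_x366, w_x367, w_x368, w_x369, w_x370, w_x371, mul_inv_cancel]

theorem rel50 : FreeGroup.lift img (x23 * (d⁻¹)) = 1 := by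
  simp only [map_mul, map_pow, map_inv, FreeGroup.lift_apply_of, img_d, img_x23, w_c1, w_c2, w_c3, w_c4, w_c5, w_e, w_a1, w_a2, w_a3, w_a4, w_u, w_x23, w_x24, w_x25, w_x29, w_x47, w_x96, w_x129, w_x162, w_x163, w_x164, w_x165, w_x166, w_x167, w_x168, w_x169, w_x364, w_x365, w_x366, w_x367, w_x368, w_x369, w_x370, w_x371, mul_inv_cancel]

theorem rel51 : FreeGroup.lift img (x24 * ((d⁻¹)⁻¹)) = 1 := by
  simp only [map_mul, map_pow, map_inv, FreeGroup.lift_apply_of, img_d, img_x24, w_c1, w_c2, w_c3, w_c4, w_c5, w_e, w_a1, w_a2, w_a3, w_a4, w_u, w_x23, w_x24, w_x25, w_x29, w_x47, w_x96, w_x129, w_x162, w_x163, w_x164, w_x165, w_x166, w_x167, w_x168, w_x169, w_x364, w_x365, w_x366, w_x367, w_x368, w_x369, w_x370, w_x371, mul_inv_cancel]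

theorem rel52 : FreeGroup.lift img (x25 * (((b ^ 2) * (a⁻¹) * (b⁻¹) * (a⁻¹) * (b ^ 2) * (c⁻¹) * a * c * (a⁻¹) * (c⁻¹) * d * (c⁻¹) * (b ^ 2) * (a⁻¹) * c * b)⁻¹)) = 1 := by
  simp only [map_mul, map_pow, map_inv, FreeGroup.lift_apply_of, img_a, img_b, img_c, img_d, img_x25, w_c1, w_c2, w_c3, w_c4, w_c5, w_e, w_a1, w_a2, w_a3, w_a4, w_u, w_x23, w_x24, w_x25, w_x29, w_x47, w_x96, w_x129, w_x162, w_x163, w_x164, w_x165, w_x166, w_x167, w_x168, w_x169, w_x364, w_x365, w_x366, w_x367, w_x368, w_x369, w_x370, w_x371, mul_inv_cancel]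

theorem rel53 : FreeGroup.lift img (x29 * ((a * b * (a⁻¹) * (b ^ 2) * (a⁻¹) * (b ^ 2) * (c⁻¹) * a * c * b * c * (b⁻¹) * d * c * ((b ^ 2)⁻¹) * d * c * b * c)⁻¹)) = 1 := by
  simp only [map_mul, map_pow, map_inv, FreeGroup.lift_apply_of, img_a, img_b, img_c, img_d, img_x29, w_c1, w_c2, w_c3, w_c4, w_c5, w_e, w_a1, w_a2, w_a3, w_a4, w_u, w_x23, w_x24, w_x25, w_x29, w_x47, w_x96, w_x129, w_x162, w_x163, w_x164, w_x165, w_x166, w_x167, w_x168, w_x169, w_x364, w_x365, w_x366, w_x367, w_x368, w_x369, w_x370, w_x371, mul_inv_cancel]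

theorem rel54 : FreeGroup.lift img (x47 * (((c⁻¹) * (d⁻¹) * (a⁻¹) * (c⁻¹) * (a⁻¹) * b * (c⁻¹) * (d⁻¹))⁻¹)) = 1 := by
  simp only [map_mul, map_pow, map_inv, FreeGroup.lift_apply_of, img_a, img_b, img_c, img_d, img_x47, w_c1, w_c2, w_c3, w_c4, w_c5, w_e, w_a1, w_a2, w_a3, w_a4, w_u, w_x23, w_x24, w_x25, w_x29, w_x47, w_x96, w_x129, w_x162, w_x163, w_x164, w_x165, w_x166, w_x167, w_x168, w_x169, w_x364, w_x365, w_x366, w_x367, w_x368, w_x369, w_x370, w_x371, mul_inv_cancel]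

theorem rel55 : FreeGroup.lift img (x96 * ((b * d)⁻¹)) = 1 := by
  simp only [map_mul, map_pow, map_inv, FreeGroup.lift_apply_of, img_b, img_d, img_x96, w_c1, w_c2, w_c3, w_c4, w_c5, w_e, w_a1, w_a2, w_a3, w_a4, w_u, w_x23, w_x24, w_x25, w_x29, w_x47, w_x96, w_x129, w_x162, w_x163, w_x164, w_x165, w_x166, w_x167, w_x168, w_x169, w_x364, w_x365, w_x366, w_x367, w_x368, w_x369, w_x370, w_x371, mul_inv_cancel]

theorem rel56 : FreeGroup.lift img (x129 * (((d⁻¹) * (b⁻¹))⁻¹)) = 1 := by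
  simp only [map_mul, map_pow, map_inv, FreeGroup.lift_apply_of, img_b, img_d, img_x129, w_c1, w_c2, w_c3, w_c4, w_c5, w_e, w_a1, w_a2, w_a3, w_a4, w_u, w_x23, w_x24, w_x25, w_x29, w_x47, w_x96, w_x129, w_x162, w_x163, w_x164, w_x165, w_x166, w_x167, w_x168, w_x169, w_x364, w_x365, w_x366, w_x367, w_x368, w_x369, w_x370, w_x371, mul_inv_cancel]

theorem rel57 : FreeGroup.lift img (x162 * (((a⁻¹) * (b⁻¹) * (a⁻¹) * b * (c⁻¹) * (b⁻¹) * a * (c⁻¹) * b * a)⁻¹)) = 1 := by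
  simp only [map_mul, map_pow, map_inv, FreeGroup.lift_apply_of, img_a, img_b, img_c, img_x162, w_c1, w_c2, w_c3, w_c4, w_c5, w_e, w_a1, w_a2, w_a3, w_a4, w_u, w_x23, w_x24, w_x25, w_x29, w_x47, w_x96, w_x129, w_x162, w_x163, w_x164, w_x165, w_x166, w_x167, w_x168, w_x169, w_x364, w_x365, w_x366, w_x367, w_x368, w_x369, w_x370, w_x371, mul_inv_cancel]

theorem rel58 : FreeGroup.lift img (x163 * ((((b ^ 2)⁻¹) * a * c * (a⁻¹) * b * c * b)⁻¹)) = 1 := by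
  simp only [map_mul, map_pow, map_inv, FreeGroup.lift_apply_of, img_a, img_b, img_c, img_x163, w_c1, w_c2, w_c3, w_c4, w_c5, w_e, w_a1, w_a2, w_a3, w_a4, w_u, w_x23, w_x24, w_x25, w_x29, w_x47, w_x96, w_x129, w_x162, w_x163, w_x164, w_x165, w_x166, w_x167, w_x168, w_x169, w_x364, w_x365, w_x366, w_x367, w_x368, w_x369, w_x370, w_x371, mul_inv_cancel]

theorem rel59 : FreeGroup.lift img (x164 * (((a⁻¹) * (b⁻¹) * (a⁻¹) * c * a * b * a)⁻¹)) = 1 := by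
  simp only [map_mul, map_pow, map_inv, FreeGroup.lift_apply_of, img_a, img_b, img_c, img_x164, w_c1, w_c2, w_c3, w_c4, w_c5, w_e, w_a1, w_a2, w_a3, w_a4, w_u, w_x23, w_x24, w_x25, w_x29, w_x47, w_x96, w_x129, w_x162, w_x163, w_x164, w_x165, w_x166, w_x167, w_x168, w_x169, w_x364, w_x365, w_x366, w_x367, w_x368, w_x369, w_x370, w_x371, mul_inv_cancel]

theorem rel60 : FreeGroup.lift img (x165 * (((b⁻¹) * (a⁻¹) * b * c * (b⁻¹) * a * b)⁻¹)) = 1 := by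
  simp only [map_mul, map_pow, map_inv, FreeGroup.lift_apply_of, img_a, img_b, img_c, img_x165, w_c1, w_c2, w_c3, w_c4, w_c5, w_e, w_a1, w_a2, w_a3, w_a4, w_u, w_x23, w_x24, w_x25, w_x29, w_x47, w_x96, w_x129, w_x162, w_x163, w_x164, w_x165, w_x166, w_x167, w_x168, w_x169, w_x364, w_x365, w_x366, w_x367, w_x368, w_x369, w_x370, w_x371, mul_inv_cancel]

theorem rel61 : FreeGroup.lift img (x166 * (((b ^ 2) * (a⁻¹) * (b⁻¹) * c * b * a * c * ((b ^ 2)⁻¹) * (c⁻¹))⁻¹)) = 1 := by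
  simp only [map_mul, map_pow, map_inv, FreeGroup.lift_apply_of, img_a, img_b, img_c, img_x166, w_c1, w_c2, w_c3, w_c4, w_c5, w_e, w_a1, w_a2, w_a3, w_a4, w_u, w_x23, w_x24, w_x25, w_x29, w_x47, w_x96, w_x129, w_x162, w_x163, w_x164, w_x165, w_x166, w_x167, w_x168, w_x169, w_x364, w_x365, w_x366, w_x367, w_x368, w_x369, w_x370, w_x371, mul_inv_cancel]

theorem rel62 : FreeGroup.lift img (x167 * (((a ^ 3)⁻¹)⁻¹)) = 1 := by
  simp only [map_mul, map_pow, map_inv, FreeGroup.lift_apply_of, img_a, img_x167, w_c1, w_c2, w_c3, w_c4, w_c5, w_e, w_a1, w_a2, w_a3, w_a4, w_u, w_x23, w_x24, w_x25, w_x29, w_x47, w_x96, w_x129, w_x162, w_x163, w_x164, w_x165, w_x166, w_x167, w_x168, w_x169, w_x364, w_x365, w_x366, w_x367, w_x368, w_x369, w_x370, w_x371, mul_inv_cancel]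

theorem rel63 : FreeGroup.lift img (x168 * ((b * (a⁻¹) * (b⁻¹) * ((a ^ 2)⁻¹))⁻¹)) = 1 := by
  simp only [map_mul, map_pow, map_inv, FreeGroup.lift_apply_of, img_a, img_b, img_x168, w_c1, w_c2, w_c3, w_c4, w_c5, w_e, w_a1, w_a2, w_a3, w_a4, w_u, w_x23, w_x24, w_x25, w_x29, w_x47, w_x96, w_x129, w_x162, w_x163, w_x164, w_x165, w_x166, w_x167, w_x168, w_x169, w_x364, w_x365, w_x366, w_x367, w_x368, w_x369, w_x370, w_x371, mul_inv_cancel]

theorem rel64 : FreeGroup.lift img (x169 * ((a * (b ^ 2) * a * ((b ^ 2)⁻¹) * (a⁻¹))⁻¹)) = 1 := by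
  simp only [map_mul, map_pow, map_inv, FreeGroup.lift_apply_of, img_a, img_b, img_x169, w_c1, w_c2, w_c3, w_c4, w_c5, w_e, w_a1, w_a2, w_a3, w_a4, w_u, w_x23, w_x24, w_x25, w_x29, w_x47, w_x96, w_x129, w_x162, w_x163, w_x164, w_x165, w_x166, w_x167, w_x168, w_x169, w_x364, w_x365, w_x366, w_x367, w_x368, w_x369, w_x370, w_x371, mul_inv_cancel]

theorem rel65 : FreeGroup.lift img (x364 * (((a⁻¹) * d * (b⁻¹) * (c⁻¹) * (a⁻¹) * b * (c⁻¹) * (d⁻¹) * b * (c⁻¹) * (b⁻¹) * (a⁻¹) * (c⁻¹) * a * (b⁻¹) * a * b * a * (b⁻¹))⁻¹)) = 1 := by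
  simp only [map_mul, map_pow, map_inv, FreeGroup.lift_apply_of, img_a, img_b, img_c, img_d, img_x364, w_c1, w_c2, w_c3, w_c4, w_c5, w_e, w_a1, w_a2, w_a3, w_a4, w_u, w_x23, w_x24, w_x25, w_x29, w_x47, w_x96, w_x129, w_x162, w_x163, w_x164, w_x165, w_x166, w_x167, w_x168, w_x169, w_x364, w_x365, w_x366, w_x367, w_x368, w_x369, w_x370, w_x371, mul_inv_cancel]

theorem rel66 : FreeGroup.lift img (x365 * ((a * ((b ^ 2)⁻¹) * (a⁻¹) * c * b * (c⁻¹) * b * (a⁻¹) * ((c ^ 2)⁻¹) * d * c * a * c * (a⁻¹) * c * (b⁻¹) * (d⁻¹))⁻¹)) = 1 := by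
  simp only [map_mul, map_pow, map_inv, FreeGroup.lift_apply_of, img_a, img_b, img_c, img_d, img_x365, w_c1, w_c2, w_c3, w_c4, w_c5, w_e, w_a1, w_a2, w_a3, w_a4, w_u, w_x23, w_x24, w_x25, w_x29, w_x47, w_x96, w_x129, w_x162, w_x163, w_x164, w_x165, w_x166, w_x167, w_x168, w_x169, w_x364, w_x365, w_x366, w_x367, w_x368, w_x369, w_x370, w_x371, mul_inv_cancel]

theorem rel67 : FreeGroup.lift img (x366 * ((b * a * (b⁻¹) * (a⁻¹) * ((b ^ 2)⁻¹) * (a⁻¹) * (b⁻¹) * c * (b ^ 2) * c * b * d * c * ((b ^ 2)⁻¹) * d * c * b * c)⁻¹)) = 1 := by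
  simp only [map_mul, map_pow, map_inv, FreeGroup.lift_apply_of, img_a, img_b, img_c, img_d, img_x366, w_c1, w_c2, w_c3, w_c4, w_c5, w_e, w_a1, w_a2, w_a3, w_a4, w_u, w_x23, w_x24, w_x25, w_x29, w_x47, w_x96, w_x129, w_x162, w_x163, w_x164, w_x165, w_x166, w_x167, w_x168, w_x169, w_x364, w_x365, w_x366, w_x367, w_x368, w_x369, w_x370, w_x371, mul_inv_cancel]

theorem rel68 : FreeGroup.lift img (x367 * (((c⁻¹) * (b⁻¹) * (c⁻¹) * (d⁻¹) * (b ^ 2) * (c⁻¹) * (d⁻¹) * (b⁻¹) * (c⁻¹) * ((b ^ 2)⁻¹) * (c⁻¹) * b * a * (b ^ 2) * a * b * (a⁻¹) * (b⁻¹))⁻¹)) = 1 := by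
  simp only [map_mul, map_pow, map_inv, FreeGroup.lift_apply_of, img_a, img_b, img_c, img_d, img_x367, w_c1, w_c2, w_c3, w_c4, w_c5, w_e, w_a1, w_a2, w_a3, w_a4, w_u, w_x23, w_x24, w_x25, w_x29, w_x47, w_x96, w_x129, w_x162, w_x163, w_x164, w_x165, w_x166, w_x167, w_x168, w_x169, w_x364, w_x365, w_x366, w_x367, w_x368, w_x369, w_x370, w_x371, mul_inv_cancel]

theorem rel69 : FreeGroup.lift img (x368 * (((a⁻¹) * (c⁻¹) * (d⁻¹) * a * (c⁻¹) * (b⁻¹) * a * (c⁻¹) * (d⁻¹) * (a⁻¹) * (c⁻¹) * a * c * ((b ^ 2)⁻¹) * (c⁻¹) * (b⁻¹) * (a⁻¹) * ((b ^ 2)⁻¹))⁻¹)) = 1 := by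
  simp only [map_mul, map_pow, map_inv, FreeGroup.lift_apply_of, img_a, img_b, img_c, img_d, img_x368, w_c1, w_c2, w_c3, w_c4, w_c5, w_e, w_a1, w_a2, w_a3, w_a4, w_u, w_x23, w_x24, w_x25, w_x29, w_x47, w_x96, w_x129, w_x162, w_x163, w_x164, w_x165, w_x166, w_x167, w_x168, w_x169, w_x364, w_x365, w_x366, w_x367, w_x368, w_x369, w_x370, w_x371, mul_inv_cancel]

theorem rel70 : FreeGroup.lift img (x369 * (((a⁻¹) * (c⁻¹) * (d⁻¹) * b * (a⁻¹) * (b⁻¹) * (c⁻¹) * (d⁻¹) * b * (a⁻¹) * (b⁻¹) * (c⁻¹) * (b⁻¹) * a * ((b ^ 2)⁻¹) * a * (b⁻¹))⁻¹)) = 1 := by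
  simp only [map_mul, map_pow, map_inv, FreeGroup.lift_apply_of, img_a, img_b, img_c, img_d, img_x369, w_c1, w_c2, w_c3, w_c4, w_c5, w_e, w_a1, w_a2, w_a3, w_a4, w_u, w_x23, w_x24, w_x25, w_x29, w_x47, w_x96, w_x129, w_x162, w_x163, w_x164, w_x165, w_x166, w_x167, w_x168, w_x169, w_x364, w_x365, w_x366, w_x367, w_x368, w_x369, w_x370, w_x371, mul_inv_cancel]

theorem rel71 : FreeGroup.lift img (x370 * (((d⁻¹) * a * c * b * c * (a⁻¹) * (c⁻¹) * (d⁻¹) * a * (b⁻¹) * (a⁻¹) * c * (a⁻¹) * ((b ^ 2)⁻¹) * (a⁻¹) * b * (a⁻¹))⁻¹)) = 1 := by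
  simp only [map_mul, map_pow, map_inv, FreeGroup.lift_apply_of, img_a, img_b, img_c, img_d, img_x370, w_c1, w_c2, w_c3, w_c4, w_c5, w_e, w_a1, w_a2, w_a3, w_a4, w_u, w_x23, w_x24, w_x25, w_x29, w_x47, w_x96, w_x129, w_x162, w_x163, w_x164, w_x165, w_x166, w_x167, w_x168, w_x169, w_x364, w_x365, w_x366, w_x367, w_x368, w_x369, w_x370, w_x371, mul_inv_cancel]

theorem rel72 : FreeGroup.lift img (x371 * (((c⁻¹) * (a⁻¹) * c * b * (c⁻¹) * (d⁻¹) * c * (a⁻¹) * c * a * c * (b⁻¹) * (a⁻¹) * (b⁻¹) * (a⁻¹) * b)⁻¹)) = 1 := by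
  simp only [map_mul, map_pow, map_inv, FreeGroup.lift_apply_of, img_a, img_b, img_c, img_d, img_x371, w_c1, w_c2, w_c3, w_c4, w_c5, w_e, w_a1, w_a2, w_a3, w_a4, w_u, w_x23, w_x24, w_x25, w_x29, w_x47, w_x96, w_x129, w_x162, w_x163, w_x164, w_x165, w_x166, w_x167, w_x168, w_x169, w_x364, w_x365, w_x366, w_x367, w_x368, w_x369, w_x370, w_x371, mul_inv_cancel]

theorem rels_hold : ∀ r ∈ Cfsg.Spor.coxRelators Cfsg.Spor.Ly.edges ∪ {r | r ∈ Cfsg.Spor.Ly.extra},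
    FreeGroup.lift img r = 1 := by
  rintro r (⟨a, ha, -⟩ | hr)
  · simp [Cfsg.Spor.Ly.edges, Cfsg.Spor.coxNodes] at ha
  · simp only [Cfsg.Spor.Ly.extra, Set.mem_ofPred_eq, List.mem_cons, List.not_mem_nil, or_false] at hr
    rcases hr with rfl | rfl | rfl | rfl | rfl | rfl | rfl | rfl | rfl | rfl | rfl | rfl | rfl | rfl | rfl | rfl | rfl | rfl | rfl | rfl | rfl | rfl | rfl | rfl | rfl | rfl | rfl | rfl | rfl | rfl | rfl | rfl | rfl | rfl | rfl | rfl | rfl | rfl | rfl | rfl | rfl | rfl | rfl | rfl | rfl | rfl | rfl | rfl | rfl | rfl | rfl | rfl | rfl | rfl | rfl | rfl | rfl | rfl | rfl | rfl | rfl | rfl | rfl | rfl | rfl | rfl | rfl | rfl | rfl | rfl | rfl | rfl | rfl | rfl | rfl | rfl | rfl | rfl | rfl | rfl | rfl | rfl | rfl | rfl | rfl | rfl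
    exacts [rel1, rel2, rel3, rel4, rel5, rel6, rel7, rel8, rel9, rel10, rel11, rel12, rel13, rel14, rel15, rel16, rel17, rel18, rel19, rel20, rel21, rel22, rel23, rel24, rel25, rel26, rel27, rel28, rel29, rel30, rel31, rel32, rel33, rel34, rel35, rel36, rel37, rel38, rel39, rel40, rel41, rel42, rel43, rel44, rel45, rel46, rel47, rel48, rel49, rel50, rel51, rel52, rel53, rel54, rel55, rel56, rel57, rel58, rel59, rel60, rel61, rel62, rel63, rel64, rel65, rel66, rel67, rel68, rel69, rel70, rel71, rel72, rel73, rel74, rel75, rel76, rel77, rel78, rel79, rel80, rel81, rel82, rel83, rel84, rel85, rel86]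

/-- A representation in which `a` is not the identity. -/
theorem exists_rep : ∃ (M : Type) (_ : Group M) (ψ : Cfsg.Spor.Ly →* M),
    ψ (PresentedGroup.of Cfsg.Spor.Ly.Gen.a) ≠ 1 := by
  refine ⟨M111ˣ, inferInstance, PresentedGroup.toGroup rels_hold, ?_⟩
  rw [PresentedGroup.toGroup.of, img_a]
  exact ne_of_rep rep_a rep_one (by decide +kernel)

end CfsgLib.SporRecognition.LyRep
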