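import Cfsg.Agent.Lib.SporRecognition.LyRep.Rep

/-! The relators of the presentation hold for the matrices. -/

set_option autoImplicit false
set_option maxRecDepth 100000
set_option maxHeartbeats 1000000
set_option Elab.async false
set_option linter.unusedSimpArgs false
set_option linter.unusedTactic false
set_option linter.unreachableTactic false

namespace CfsgLib.SporRecognition.LyRep

open Cfsg.Spor.Ly

attribute [local irreducible] mul one mat okB ent matA invA matB invB matC invC matD invD matZ invZ uA uB uC uD uZ pw2 pw3 pw4 pw5 pw6 pw8 img Rep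

theorem rel1 : FreeGroup.lift img (a ^ 8) = 1 := by
  simp only [map_mul, map_pow, map_inv, FreeGroup.lift_apply_of, img_a, w_c1, w_c2, w_c3, w_c4, w_c5, w_e, w_a1, w_a2, w_a3, w_a4, w_u, w_x23, w_x24, w_x25, w_x29, w_x47, w_x96, w_x129, w_x162, w_x163, w_x164, w_x165, w_x166, w_x167, w_x168, w_x169, w_x364, w_x365, w_x366, w_x367, w_x368, w_x369, w_x370, w_x371, mul_inv_rev, inv_inv, ← inv_pow]
  apply eq_one_of_rep
  case ha =>
    repeat' first
      | with_reducible exact rep_a | with_reducible exact rep_ai | with_reducible exact rep_b | with_reducible exact rep_bi | with_reducible exact rep_c | with_reducible exact rep_ci | with_reducible exact rep_d | with_reducible exact rep_di | with_reducible exact rep_z | with_reducible exact rep_zi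
      | with_reducible apply rep_pw2 | with_reducible apply rep_pw3 | with_reducible apply rep_pw4 | with_reducible apply rep_pw5 | with_reducible apply rep_pw8
      | with_reducible apply rep_mul
  decide +kernel

theorem rel2 : FreeGroup.lift img (b ^ 5) = 1 := by
  simp only [map_mul, map_pow, map_inv, FreeGroup.lift_apply_of, img_b, w_c1, w_c2, w_c3, w_c4, w_c5, w_e, w_a1, w_a2, w_a3, w_a4, w_u, w_x23, w_x24, w_x25, w_x29, w_x47, w_x96, w_x129, w_x162, w_x163, w_x164, w_x165, w_x166, w_x167, w_x168, w_x169, w_x364, w_x365, w_x366, w_x367, w_x368, w_x369, w_x370, w_x371, mul_inv_rev, inv_inv, ← inv_pow]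
  apply eq_one_of_rep
  case ha =>
    repeat' first
      | with_reducible exact rep_a | with_reducible exact rep_ai | with_reducible exact rep_b | with_reducible exact rep_bi | with_reducible exact rep_c | with_reducible exact rep_ci | with_reducible exact rep_d | with_reducible exact rep_di | with_reducible exact rep_z | with_reducible exact rep_zi
      | with_reducible apply rep_pw2 | with_reducible apply rep_pw3 | with_reducible apply rep_pw4 | with_reducible apply rep_pw5 | with_reducible apply rep_pw8
      | with_reducible apply rep_mul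
  decide +kernel

theorem rel3 : FreeGroup.lift img ((a * b) ^ 4) = 1 := by
  simp only [map_mul, map_pow, map_inv, FreeGroup.lift_apply_of, img_a, img_b, w_c1, w_c2, w_c3, w_c4, w_c5, w_e, w_a1, w_a2, w_a3, w_a4, w_u, w_x23, w_x24, w_x25, w_x29, w_x47, w_x96, w_x129, w_x162, w_x163, w_x164, w_x165, w_x166, w_x167, w_x168, w_x169, w_x364, w_x365, w_x366, w_x367, w_x368, w_x369, w_x370, w_x371, mul_inv_rev, inv_inv, ← inv_pow]
  apply eq_one_of_rep
  case ha =>
    repeat' first
      | with_reducible exact rep_a | with_reducible exact rep_ai | with_reducible exact rep_b | with_reducible exact rep_bi | with_reducible exact rep_c | with_reducible exact rep_ci | with_reducible exact rep_d | with_reducible exact rep_di | with_reducible exact rep_z | with_reducible exact rep_zi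
      | with_reducible apply rep_pw2 | with_reducible apply rep_pw3 | with_reducible apply rep_pw4 | with_reducible apply rep_pw5 | with_reducible apply rep_pw8
      | with_reducible apply rep_mul
  decide +kernel

theorem rel4 : FreeGroup.lift img ((a ^ 2)⁻¹ * b⁻¹ * (a ^ 2) * b) = 1 := by
  simp only [map_mul, map_pow, map_inv, FreeGroup.lift_apply_of, img_a, img_b, w_c1, w_c2, w_c3, w_c4, w_c5, w_e, w_a1, w_a2, w_a3, w_a4, w_u, w_x23, w_x24, w_x25, w_x29, w_x47, w_x96, w_x129, w_x162, w_x163, w_x164, w_x165, w_x166, w_x167, w_x168, w_x169, w_x364, w_x365, w_x366, w_x367, w_x368, w_x369, w_x370, w_x371, mul_inv_rev, inv_inv, ← inv_pow]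
  apply eq_one_of_rep
  case ha =>
    repeat' first
      | with_reducible exact rep_a | with_reducible exact rep_ai | with_reducible exact rep_b | with_reducible exact rep_bi | with_reducible exact rep_c | with_reducible exact rep_ci | with_reducible exact rep_d | with_reducible exact rep_di | with_reducible exact rep_z | with_reducible exact rep_zi
      | with_reducible apply rep_pw2 | with_reducible apply rep_pw3 | with_reducible apply rep_pw4 | with_reducible apply rep_pw5 | with_reducible apply rep_pw8
      | with_reducible apply rep_mul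
  decide +kernel

theorem rel5 : FreeGroup.lift img ((a⁻¹ * b⁻¹ * a * b) ^ 3) = 1 := by
  simp only [map_mul, map_pow, map_inv, FreeGroup.lift_apply_of, img_a, img_b, w_c1, w_c2, w_c3, w_c4, w_c5, w_e, w_a1, w_a2, w_a3, w_a4, w_u, w_x23, w_x24, w_x25, w_x29, w_x47, w_x96, w_x129, w_x162, w_x163, w_x164, w_x165, w_x166, w_x167, w_x168, w_x169, w_x364, w_x365, w_x366, w_x367, w_x368, w_x369, w_x370, w_x371, mul_inv_rev, inv_inv, ← inv_pow]
  apply eq_one_of_rep
  case ha =>
    repeat' first
      | with_reducible exact rep_a | with_reducible exact rep_ai | with_reducible exact rep_b | with_reducible exact rep_bi | with_reducible exact rep_c | with_reducible exact rep_ci | with_reducible exact rep_d | with_reducible exact rep_di | with_reducible exact rep_z | with_reducible exact rep_zi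
      | with_reducible apply rep_pw2 | with_reducible apply rep_pw3 | with_reducible apply rep_pw4 | with_reducible apply rep_pw5 | with_reducible apply rep_pw8
      | with_reducible apply rep_mul
  decide +kernel

theorem rel11 : FreeGroup.lift img (c1 ^ 5) = 1 := by
  simp only [map_mul, map_pow, map_inv, FreeGroup.lift_apply_of, img_c1, w_c1, w_c2, w_c3, w_c4, w_c5, w_e, w_a1, w_a2, w_a3, w_a4, w_u, w_x23, w_x24, w_x25, w_x29, w_x47, w_x96, w_x129, w_x162, w_x163, w_x164, w_x165, w_x166, w_x167, w_x168, w_x169, w_x364, w_x365, w_x366, w_x367, w_x368, w_x369, w_x370, w_x371, mul_inv_rev, inv_inv, ← inv_pow]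
  apply eq_one_of_rep
  case ha =>
    repeat' first
      | with_reducible exact rep_a | with_reducible exact rep_ai | with_reducible exact rep_b | with_reducible exact rep_bi | with_reducible exact rep_c | with_reducible exact rep_ci | with_reducible exact rep_d | with_reducible exact rep_di | with_reducible exact rep_z | with_reducible exact rep_zi
      | with_reducible apply rep_pw2 | with_reducible apply rep_pw3 | with_reducible apply rep_pw4 | with_reducible apply rep_pw5 | with_reducible apply rep_pw8
      | with_reducible apply rep_mul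
  decide +kernel

theorem rel12 : FreeGroup.lift img (c5 ^ 5) = 1 := by
  simp only [map_mul, map_pow, map_inv, FreeGroup.lift_apply_of, img_c5, w_c1, w_c2, w_c3, w_c4, w_c5, w_e, w_a1, w_a2, w_a3, w_a4, w_u, w_x23, w_x24, w_x25, w_x29, w_x47, w_x96, w_x129, w_x162, w_x163, w_x164, w_x165, w_x166, w_x167, w_x168, w_x169, w_x364, w_x365, w_x366, w_x367, w_x368, w_x369, w_x370, w_x371, mul_inv_rev, inv_inv, ← inv_pow]
  apply eq_one_of_rep
  case ha =>
    repeat' first
      | with_reducible exact rep_a | with_reducible exact rep_ai | with_reducible exact rep_b | with_reducible exact rep_bi | with_reducible exact rep_c | with_reducible exact rep_ci | with_reducible exact rep_d | with_reducible exact rep_di | with_reducible exact rep_z | with_reducible exact rep_zi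
      | with_reducible apply rep_pw2 | with_reducible apply rep_pw3 | with_reducible apply rep_pw4 | with_reducible apply rep_pw5 | with_reducible apply rep_pw8
      | with_reducible apply rep_mul
  decide +kernel

theorem rel13 : FreeGroup.lift img (c1⁻¹ * c5⁻¹ * c1 * c5) = 1 := by
  simp only [map_mul, map_pow, map_inv, FreeGroup.lift_apply_of, img_c1, img_c5, w_c1, w_c2, w_c3, w_c4, w_c5, w_e, w_a1, w_a2, w_a3, w_a4, w_u, w_x23, w_x24, w_x25, w_x29, w_x47, w_x96, w_x129, w_x162, w_x163, w_x164, w_x165, w_x166, w_x167, w_x168, w_x169, w_x364, w_x365, w_x366, w_x367, w_x368, w_x369, w_x370, w_x371, mul_inv_rev, inv_inv, ← inv_pow]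
  apply eq_one_of_rep
  case ha =>
    repeat' first
      | with_reducible exact rep_a | with_reducible exact rep_ai | with_reducible exact rep_b | with_reducible exact rep_bi | with_reducible exact rep_c | with_reducible exact rep_ci | with_reducible exact rep_d | with_reducible exact rep_di | with_reducible exact rep_z | with_reducible exact rep_zi
      | with_reducible apply rep_pw2 | with_reducible apply rep_pw3 | with_reducible apply rep_pw4 | with_reducible apply rep_pw5 | with_reducible apply rep_pw8
      | with_reducible apply rep_mul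
  decide +kernel

theorem rel14 : FreeGroup.lift img (c2⁻¹ * c5⁻¹ * c2 * c5) = 1 := by
  simp only [map_mul, map_pow, map_inv, FreeGroup.lift_apply_of, img_c2, img_c5, w_c1, w_c2, w_c3, w_c4, w_c5, w_e, w_a1, w_a2, w_a3, w_a4, w_u, w_x23, w_x24, w_x25, w_x29, w_x47, w_x96, w_x129, w_x162, w_x163, w_x164, w_x165, w_x166, w_x167, w_x168, w_x169, w_x364, w_x365, w_x366, w_x367, w_x368, w_x369, w_x370, w_x371, mul_inv_rev, inv_inv, ← inv_pow]
  apply eq_one_of_rep
  case ha =>
    repeat' first
      | with_reducible exact rep_a | with_reducible exact rep_ai | with_reducible exact rep_b | with_reducible exact rep_bi | with_reducible exact rep_c | with_reducible exact rep_ci | with_reducible exact rep_d | with_reducible exact rep_di | with_reducible exact rep_z | with_reducible exact rep_zi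
      | with_reducible apply rep_pw2 | with_reducible apply rep_pw3 | with_reducible apply rep_pw4 | with_reducible apply rep_pw5 | with_reducible apply rep_pw8
      | with_reducible apply rep_mul
  decide +kernel

theorem rel15 : FreeGroup.lift img (c3⁻¹ * c5⁻¹ * c3 * c5) = 1 := by
  simp only [map_mul, map_pow, map_inv, FreeGroup.lift_apply_of, img_c3, img_c5, w_c1, w_c2, w_c3, w_c4, w_c5, w_e, w_a1, w_a2, w_a3, w_a4, w_u, w_x23, w_x24, w_x25, w_x29, w_x47, w_x96, w_x129, w_x162, w_x163, w_x164, w_x165, w_x166, w_x167, w_x168, w_x169, w_x364, w_x365, w_x366, w_x367, w_x368, w_x369, w_x370, w_x371, mul_inv_rev, inv_inv, ← inv_pow]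
  apply eq_one_of_rep
  case ha =>
    repeat' first
      | with_reducible exact rep_a | with_reducible exact rep_ai | with_reducible exact rep_b | with_reducible exact rep_bi | with_reducible exact rep_c | with_reducible exact rep_ci | with_reducible exact rep_d | with_reducible exact rep_di | with_reducible exact rep_z | with_reducible exact rep_zi
      | with_reducible apply rep_pw2 | with_reducible apply rep_pw3 | with_reducible apply rep_pw4 | with_reducible apply rep_pw5 | with_reducible apply rep_pw8
      | with_reducible apply rep_mul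
  decide +kernel

theorem rel16 : FreeGroup.lift img (c4⁻¹ * c5⁻¹ * c4 * c5) = 1 := by
  simp only [map_mul, map_pow, map_inv, FreeGroup.lift_apply_of, img_c4, img_c5, w_c1, w_c2, w_c3, w_c4, w_c5, w_e, w_a1, w_a2, w_a3, w_a4, w_u, w_x23, w_x24, w_x25, w_x29, w_x47, w_x96, w_x129, w_x162, w_x163, w_x164, w_x165, w_x166, w_x167, w_x168, w_x169, w_x364, w_x365, w_x366, w_x367, w_x368, w_x369, w_x370, w_x371, mul_inv_rev, inv_inv, ← inv_pow]
  apply eq_one_of_rep
  case ha =>
    repeat' first
      | with_reducible exact rep_a | with_reducible exact rep_ai | with_reducible exact rep_b | with_reducible exact rep_bi | with_reducible exact rep_c | with_reducible exact rep_ci | with_reducible exact rep_d | with_reducible exact rep_di | with_reducible exact rep_z | with_reducible exact rep_zi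
      | with_reducible apply rep_pw2 | with_reducible apply rep_pw3 | with_reducible apply rep_pw4 | with_reducible apply rep_pw5 | with_reducible apply rep_pw8
      | with_reducible apply rep_mul
  decide +kernel

theorem rel17 : FreeGroup.lift img ((c1⁻¹ * c3⁻¹ * c1 * c3) * (((c5 ^ 2)⁻¹)⁻¹)) = 1 := by
  simp only [map_mul, map_pow, map_inv, FreeGroup.lift_apply_of, img_c1, img_c3, img_c5, w_c1, w_c2, w_c3, w_c4, w_c5, w_e, w_a1, w_a2, w_a3, w_a4, w_u, w_x23, w_x24, w_x25, w_x29, w_x47, w_x96, w_x129, w_x162, w_x163, w_x164, w_x165, w_x166, w_x167, w_x168, w_x169, w_x364, w_x365, w_x366, w_x367, w_x368, w_x369, w_x370, w_x371, mul_inv_rev, inv_inv, ← inv_pow]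
  apply eq_one_of_rep
  case ha =>
    repeat' first
      | with_reducible exact rep_a | with_reducible exact rep_ai | with_reducible exact rep_b | with_reducible exact rep_bi | with_reducible exact rep_c | with_reducible exact rep_ci | with_reducible exact rep_d | with_reducible exact rep_di | with_reducible exact rep_z | with_reducible exact rep_zi
      | with_reducible apply rep_pw2 | with_reducible apply rep_pw3 | with_reducible apply rep_pw4 | with_reducible apply rep_pw5 | with_reducible apply rep_pw8
      | with_reducible apply rep_mul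
  decide +kernel

theorem rel18 : FreeGroup.lift img ((c1⁻¹ * c4⁻¹ * c1 * c4) * ((c5 ^ 2)⁻¹)) = 1 := by
  simp only [map_mul, map_pow, map_inv, FreeGroup.lift_apply_of, img_c1, img_c4, img_c5, w_c1, w_c2, w_c3, w_c4, w_c5, w_e, w_a1, w_a2, w_a3, w_a4, w_u, w_x23, w_x24, w_x25, w_x29, w_x47, w_x96, w_x129, w_x162, w_x163, w_x164, w_x165, w_x166, w_x167, w_x168, w_x169, w_x364, w_x365, w_x366, w_x367, w_x368, w_x369, w_x370, w_x371, mul_inv_rev, inv_inv, ← inv_pow]
  apply eq_one_of_rep
  case ha =>
    repeat' first
      | with_reducible exact rep_a | with_reducible exact rep_ai | with_reducible exact rep_b | with_reducible exact rep_bi | with_reducible exact rep_c | with_reducible exact rep_ci | with_reducible exact rep_d | with_reducible exact rep_di | with_reducible exact rep_z | with_reducible exact rep_zi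
      | with_reducible apply rep_pw2 | with_reducible apply rep_pw3 | with_reducible apply rep_pw4 | with_reducible apply rep_pw5 | with_reducible apply rep_pw8
      | with_reducible apply rep_mul
  decide +kernel

theorem rel19 : FreeGroup.lift img ((c2⁻¹ * c3⁻¹ * c2 * c3) * ((c5⁻¹)⁻¹)) = 1 := by
  simp only [map_mul, map_pow, map_inv, FreeGroup.lift_apply_of, img_c2, img_c3, img_c5, w_c1, w_c2, w_c3, w_c4, w_c5, w_e, w_a1, w_a2, w_a3, w_a4, w_u, w_x23, w_x24, w_x25, w_x29, w_x47, w_x96, w_x129, w_x162, w_x163, w_x164, w_x165, w_x166, w_x167, w_x168, w_x169, w_x364, w_x365, w_x366, w_x367, w_x368, w_x369, w_x370, w_x371, mul_inv_rev, inv_inv, ← inv_pow]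
  apply eq_one_of_rep
  case ha =>
    repeat' first
      | with_reducible exact rep_a | with_reducible exact rep_ai | with_reducible exact rep_b | with_reducible exact rep_bi | with_reducible exact rep_c | with_reducible exact rep_ci | with_reducible exact rep_d | with_reducible exact rep_di | with_reducible exact rep_z | with_reducible exact rep_zi
      | with_reducible apply rep_pw2 | with_reducible apply rep_pw3 | with_reducible apply rep_pw4 | with_reducible apply rep_pw5 | with_reducible apply rep_pw8
      | with_reducible apply rep_mul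
  decide +kernel

theorem rel20 : FreeGroup.lift img (c2⁻¹ * c4⁻¹ * c2 * c4) = 1 := by
  simp only [map_mul, map_pow, map_inv, FreeGroup.lift_apply_of, img_c2, img_c4, w_c1, w_c2, w_c3, w_c4, w_c5, w_e, w_a1, w_a2, w_a3, w_a4, w_u, w_x23, w_x24, w_x25, w_x29, w_x47, w_x96, w_x129, w_x162, w_x163, w_x164, w_x165, w_x166, w_x167, w_x168, w_x169, w_x364, w_x365, w_x366, w_x367, w_x368, w_x369, w_x370, w_x371, mul_inv_rev, inv_inv, ← inv_pow]
  apply eq_one_of_rep
  case ha =>
    repeat' first
      | with_reducible exact rep_a | with_reducible exact rep_ai | with_reducible exact rep_b | with_reducible exact rep_bi | with_reducible exact rep_c | with_reducible exact rep_ci | with_reducible exact rep_d | with_reducible exact rep_di | with_reducible exact rep_z | with_reducible exact rep_zi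
      | with_reducible apply rep_pw2 | with_reducible apply rep_pw3 | with_reducible apply rep_pw4 | with_reducible apply rep_pw5 | with_reducible apply rep_pw8
      | with_reducible apply rep_mul
  decide +kernel

theorem rel21 : FreeGroup.lift img ((c3⁻¹ * c4⁻¹ * c3 * c4) * ((c5⁻¹)⁻¹)) = 1 := by
  simp only [map_mul, map_pow, map_inv, FreeGroup.lift_apply_of, img_c3, img_c4, img_c5, w_c1, w_c2, w_c3, w_c4, w_c5, w_e, w_a1, w_a2, w_a3, w_a4, w_u, w_x23, w_x24, w_x25, w_x29, w_x47, w_x96, w_x129, w_x162, w_x163, w_x164, w_x165, w_x166, w_x167, w_x168, w_x169, w_x364, w_x365, w_x366, w_x367, w_x368, w_x369, w_x370, w_x371, mul_inv_rev, inv_inv, ← inv_pow]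
  apply eq_one_of_rep
  case ha =>
    repeat' first
      | with_reducible exact rep_a | with_reducible exact rep_ai | with_reducible exact rep_b | with_reducible exact rep_bi | with_reducible exact rep_c | with_reducible exact rep_ci | with_reducible exact rep_d | with_reducible exact rep_di | with_reducible exact rep_z | with_reducible exact rep_zi
      | with_reducible apply rep_pw2 | with_reducible apply rep_pw3 | with_reducible apply rep_pw4 | with_reducible apply rep_pw5 | with_reducible apply rep_pw8
      | with_reducible apply rep_mul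
  decide +kernel

theorem rel22 : FreeGroup.lift img ((a⁻¹ * c2 * a) * (((c1 ^ 2)⁻¹)⁻¹)) = 1 := by
  simp only [map_mul, map_pow, map_inv, FreeGroup.lift_apply_of, img_a, img_c1, img_c2, w_c1, w_c2, w_c3, w_c4, w_c5, w_e, w_a1, w_a2, w_a3, w_a4, w_u, w_x23, w_x24, w_x25, w_x29, w_x47, w_x96, w_x129, w_x162, w_x163, w_x164, w_x165, w_x166, w_x167, w_x168, w_x169, w_x364, w_x365, w_x366, w_x367, w_x368, w_x369, w_x370, w_x371, mul_inv_rev, inv_inv, ← inv_pow]
  apply eq_one_of_rep
  case ha =>
    repeat' first
      | with_reducible exact rep_a | with_reducible exact rep_ai | with_reducible exact rep_b | with_reducible exact rep_bi | with_reducible exact rep_c | with_reducible exact rep_ci | with_reducible exact rep_d | with_reducible exact rep_di | with_reducible exact rep_z | with_reducible exact rep_zi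
      | with_reducible apply rep_pw2 | with_reducible apply rep_pw3 | with_reducible apply rep_pw4 | with_reducible apply rep_pw5 | with_reducible apply rep_pw8
      | with_reducible apply rep_mul
  decide +kernel

theorem rel23 : FreeGroup.lift img ((a⁻¹ * c3 * a) * ((((c3 ^ 2)⁻¹) * c1 * c4)⁻¹)) = 1 := by
  simp only [map_mul, map_pow, map_inv, FreeGroup.lift_apply_of, img_a, img_c1, img_c3, img_c4, w_c1, w_c2, w_c3, w_c4, w_c5, w_e, w_a1, w_a2, w_a3, w_a4, w_u, w_x23, w_x24, w_x25, w_x29, w_x47, w_x96, w_x129, w_x162, w_x163, w_x164, w_x165, w_x166, w_x167, w_x168, w_x169, w_x364, w_x365, w_x366, w_x367, w_x368, w_x369, w_x370, w_x371, mul_inv_rev, inv_inv, ← inv_pow]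
  apply eq_one_of_rep
  case ha =>
    repeat' first
      | with_reducible exact rep_a | with_reducible exact rep_ai | with_reducible exact rep_b | with_reducible exact rep_bi | with_reducible exact rep_c | with_reducible exact rep_ci | with_reducible exact rep_d | with_reducible exact rep_di | with_reducible exact rep_z | with_reducible exact rep_zi
      | with_reducible apply rep_pw2 | with_reducible apply rep_pw3 | with_reducible apply rep_pw4 | with_reducible apply rep_pw5 | with_reducible apply rep_pw8
      | with_reducible apply rep_mul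
  decide +kernel

theorem rel24 : FreeGroup.lift img ((a⁻¹ * c4 * a) * ((c1 * (c2⁻¹) * (c3⁻¹) * c4 * c1 * c4)⁻¹)) = 1 := by
  simp only [map_mul, map_pow, map_inv, FreeGroup.lift_apply_of, img_a, img_c1, img_c2, img_c3, img_c4, w_c1, w_c2, w_c3, w_c4, w_c5, w_e, w_a1, w_a2, w_a3, w_a4, w_u, w_x23, w_x24, w_x25, w_x29, w_x47, w_x96, w_x129, w_x162, w_x163, w_x164, w_x165, w_x166, w_x167, w_x168, w_x169, w_x364, w_x365, w_x366, w_x367, w_x368, w_x369, w_x370, w_x371, mul_inv_rev, inv_inv, ← inv_pow]
  apply eq_one_of_rep
  case ha =>
    repeat' first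
      | with_reducible exact rep_a | with_reducible exact rep_ai | with_reducible exact rep_b | with_reducible exact rep_bi | with_reducible exact rep_c | with_reducible exact rep_ci | with_reducible exact rep_d | with_reducible exact rep_di | with_reducible exact rep_z | with_reducible exact rep_zi
      | with_reducible apply rep_pw2 | with_reducible apply rep_pw3 | with_reducible apply rep_pw4 | with_reducible apply rep_pw5 | with_reducible apply rep_pw8
      | with_reducible apply rep_mul
  decide +kernel

theorem rel25 : FreeGroup.lift img ((a⁻¹ * c5 * a) * ((c5 ^ 2)⁻¹)) = 1 := by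
  simp only [map_mul, map_pow, map_inv, FreeGroup.lift_apply_of, img_a, img_c5, w_c1, w_c2, w_c3, w_c4, w_c5, w_e, w_a1, w_a2, w_a3, w_a4, w_u, w_x23, w_x24, w_x25, w_x29, w_x47, w_x96, w_x129, w_x162, w_x163, w_x164, w_x165, w_x166, w_x167, w_x168, w_x169, w_x364, w_x365, w_x366, w_x367, w_x368, w_x369, w_x370, w_x371, mul_inv_rev, inv_inv, ← inv_pow]
  apply eq_one_of_rep
  case ha =>
    repeat' first
      | with_reducible exact rep_a | with_reducible exact rep_ai | with_reducible exact rep_b | with_reducible exact rep_bi | with_reducible exact rep_c | with_reducible exact rep_ci | with_reducible exact rep_d | with_reducible exact rep_di | with_reducible exact rep_z | with_reducible exact rep_zi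
      | with_reducible apply rep_pw2 | with_reducible apply rep_pw3 | with_reducible apply rep_pw4 | with_reducible apply rep_pw5 | with_reducible apply rep_pw8
      | with_reducible apply rep_mul
  decide +kernel

theorem rel26 : FreeGroup.lift img ((b⁻¹ * c2 * b) * ((c2 * c3 * (c4⁻¹) * (c1⁻¹) * (c4⁻¹))⁻¹)) = 1 := by
  simp only [map_mul, map_pow, map_inv, FreeGroup.lift_apply_of, img_b, img_c1, img_c2, img_c3, img_c4, w_c1, w_c2, w_c3, w_c4, w_c5, w_e, w_a1, w_a2, w_a3, w_a4, w_u, w_x23, w_x24, w_x25, w_x29, w_x47, w_x96, w_x129, w_x162, w_x163, w_x164, w_x165, w_x166, w_x167, w_x168, w_x169, w_x364, w_x365, w_x366, w_x367, w_x368, w_x369, w_x370, w_x371, mul_inv_rev, inv_inv, ← inv_pow]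
  apply eq_one_of_rep
  case ha =>
    repeat' first
      | with_reducible exact rep_a | with_reducible exact rep_ai | with_reducible exact rep_b | with_reducible exact rep_bi | with_reducible exact rep_c | with_reducible exact rep_ci | with_reducible exact rep_d | with_reducible exact rep_di | with_reducible exact rep_z | with_reducible exact rep_zi
      | with_reducible apply rep_pw2 | with_reducible apply rep_pw3 | with_reducible apply rep_pw4 | with_reducible apply rep_pw5 | with_reducible apply rep_pw8
      | with_reducible apply rep_mul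
  decide +kernel

theorem rel27 : FreeGroup.lift img ((b⁻¹ * c3 * b) * (((c1 ^ 2) * c4 * ((c3 ^ 2)⁻¹))⁻¹)) = 1 := by
  simp only [map_mul, map_pow, map_inv, FreeGroup.lift_apply_of, img_b, img_c1, img_c3, img_c4, w_c1, w_c2, w_c3, w_c4, w_c5, w_e, w_a1, w_a2, w_a3, w_a4, w_u, w_x23, w_x24, w_x25, w_x29, w_x47, w_x96, w_x129, w_x162, w_x163, w_x164, w_x165, w_x166, w_x167, w_x168, w_x169, w_x364, w_x365, w_x366, w_x367, w_x368, w_x369, w_x370, w_x371, mul_inv_rev, inv_inv, ← inv_pow]
  apply eq_one_of_rep
  case ha =>
    repeat' first
      | with_reducible exact rep_a | with_reducible exact rep_ai | with_reducible exact rep_b | with_reducible exact rep_bi | with_reducible exact rep_c | with_reducible exact rep_ci | with_reducible exact rep_d | with_reducible exact rep_di | with_reducible exact rep_z | with_reducible exact rep_zi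
      | with_reducible apply rep_pw2 | with_reducible apply rep_pw3 | with_reducible apply rep_pw4 | with_reducible apply rep_pw5 | with_reducible apply rep_pw8
      | with_reducible apply rep_mul
  decide +kernel

theorem rel28 : FreeGroup.lift img ((b⁻¹ * c5 * b) * (c5⁻¹)) = 1 := by
  simp only [map_mul, map_pow, map_inv, FreeGroup.lift_apply_of, img_b, img_c5, w_c1, w_c2, w_c3, w_c4, w_c5, w_e, w_a1, w_a2, w_a3, w_a4, w_u, w_x23, w_x24, w_x25, w_x29, w_x47, w_x96, w_x129, w_x162, w_x163, w_x164, w_x165, w_x166, w_x167, w_x168, w_x169, w_x364, w_x365, w_x366, w_x367, w_x368, w_x369, w_x370, w_x371, mul_inv_rev, inv_inv, ← inv_pow]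
  apply eq_one_of_rep
  case ha =>
    repeat' first
      | with_reducible exact rep_a | with_reducible exact rep_ai | with_reducible exact rep_b | with_reducible exact rep_bi | with_reducible exact rep_c | with_reducible exact rep_ci | with_reducible exact rep_d | with_reducible exact rep_di | with_reducible exact rep_z | with_reducible exact rep_zi
      | with_reducible apply rep_pw2 | with_reducible apply rep_pw3 | with_reducible apply rep_pw4 | with_reducible apply rep_pw5 | with_reducible apply rep_pw8
      | with_reducible apply rep_mul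
  decide +kernel

end CfsgLib.SporRecognition.LyRep
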